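import Groth.Agent.SBSplitLib.Points
import Groth.Agent.GrassLib.PluckerImm
import Groth.Agent.GrassLib.Free
import Groth.Agent.GenusZeroLib.PSpace
import Groth.Agent.LichtLib.ProjOver
import Groth.Prelude.Def_BrSev2

/-!
# A splitting field of the algebra splits the Severi–Brauer variety
-/

set_option autoImplicit false
set_option linter.style.haveILetI false
set_option maxHeartbeats 800000

universe u

open CategoryTheory CategoryTheory.Limits AlgebraicGeometry TensorProduct

noncomputable section

namespace SBSplitLib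

variable {k : Type u} [Field k] {A : Type u} [Ring A] [Algebra k A] {K : Type u} [Field K] [Algebra k K]
variable {X : Scheme.{u}} (f : X ⟶ Spec (CommRingCat.of k))

theorem sp_comp {R : CommAlgCat.{u} K} [Algebra k R] [IsScalarTower k K R] :
    GrassLib.sp R ≫ Spec.map (CommRingCat.ofHom (algebraMap k K)) = Spec.map (CommRingCat.ofHom (algebraMap k R)) := by
  rw [← Spec.map_comp, ← CommRingCat.ofHom_comp, ← IsScalarTower.algebraMap_eq]

variable (K) in
/-- Points of the base change. -/
def bcPts (R : CommAlgCat.{u} K) [Algebra k R] [IsScalarTower k K R] :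
    (Over.mk (GrassLib.sp R) ⟶ Over.mk (BrSev.bcTo f K)) ≃ BrSev.Pts f R where
  toFun g := ⟨g.left ≫ BrSev.proj f K, by
    rw [Category.assoc, pullback.condition, ← Category.assoc, show g.left ≫ BrSev.bcTo f K = GrassLib.sp R from Over.w g,
      sp_comp]⟩
  invFun y := Over.homMk (pullback.lift y.1 (GrassLib.sp R) (by rw [y.2, sp_comp])) (pullback.lift_snd _ _ _)
  left_inv g := Over.OverMorphism.ext (pullback.hom_ext (pullback.lift_fst _ _ _) (by
    simp only [Over.homMk_left, pullback.lift_snd]
    exact (Over.w g).symm))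
  right_inv y := Subtype.ext (pullback.lift_fst _ _ _)

theorem bcPts_val (R : CommAlgCat.{u} K) [Algebra k R] [IsScalarTower k K R]
    (g : Over.mk (GrassLib.sp R) ⟶ Over.mk (BrSev.bcTo f K)) :
    (bcPts K f R g).1 = g.left ≫ BrSev.proj f K := rfl

variable [Module.Finite k A] {n : ℕ} (s : SBAutLib.Split k A n K) (hA : Module.finrank k A = n * n) (hn : 0 < n)
variable (σ : BrSev.SBStr k A (n * n - n) f)

/-- The bijection on points over the splitting field. -/
def eAlg (R : CommAlgCat.{u} K) :
    (Over.mk (GrassLib.sp R) ⟶ Over.mk (BrSev.bcTo f K)) ≃ GrassLib.Pt K (Fin n → K) (n - 1) R :=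
  letI : Algebra k R := ((algebraMap K R).comp (algebraMap k K)).toAlgebra
  haveI : IsScalarTower k K R := IsScalarTower.of_algebraMap_eq fun _ => rfl
  (bcPts K f R).trans ((σ.bij R).trans (grEquiv s hA hn))

/-- The base change of the variety represents the Grassmannian functor. -/
def repPair : GrassLib.RepPair K (Fin n → K) (n - 1) where
  X := Over.mk (BrSev.bcTo f K)
  e := eAlg f s hA hn σ
  he R S φ g g' h := by
    letI : Algebra k R := ((algebraMap K R).comp (algebraMap k K)).toAlgebra
    haveI : IsScalarTower k K R := IsScalarTower.of_algebraMap_eq fun _ => rfl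
    letI : Algebra k S := ((algebraMap K S).comp (algebraMap k K)).toAlgebra
    haveI : IsScalarTower k K S := IsScalarTower.of_algebraMap_eq fun _ => rfl
    refine grEquiv_map s hA hn φ _ _ ?_
    rw [← σ.natural]
    refine congrArg (fun y => (σ.bij S y).1.toSubmodule) (Subtype.ext ?_)
    show g'.left ≫ BrSev.proj f K = Spec.map _ ≫ g.left ≫ BrSev.proj f K
    rw [h, Category.assoc]
    rfl

include s hA hn σ in
/-- **A splitting field of the algebra splits its Severi–Brauer variety.** -/
theorem nonempty_splitting : Nonempty (BrSev.Splitting f K (n - 1)) := by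
  let P := repPair f s hA hn σ
  obtain ⟨c, hc, hcK⟩ := P.exists_plucker (Nat.sub_le n 1)
  have hch : n.choose (n - 1) - 1 = n - 1 := by
    rw [Nat.choose_symm_of_eq_add (show n = (n - 1) + 1 by omega), Nat.choose_one_right]
  revert c
  rw [hch]
  intro c hc hcK
  haveI := hc
  obtain ⟨e, he⟩ := LichtLib.exists_iso_over (n - 1) K
  let r : BrSev.bc f K ⟶ CohB1.ProjSpace (n - 1) K := c ≫ e.inv
  have hr : r ≫ CohB1.ProjSpace.toSpec (n - 1) K = BrSev.bcTo f K := by
    rw [← he, Category.assoc, Iso.inv_hom_id_assoc]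
    exact hcK
  haveI : IsClosedImmersion r := inferInstanceAs (IsClosedImmersion (c ≫ e.inv))
  obtain ⟨i, hi⟩ := P.exists_std_chart_iso (Fin.castLEEmb (Nat.sub_le n 1))
  let U := P.chartOpen (GrassLib.stdTuple K (Fin.castLEEmb (Nat.sub_le n 1)))
  have hU : topologicalKrullDim ↥U.toScheme = ((n - 1 : ℕ) : WithBot ℕ∞) := by
    rw [IsHomeomorph.topologicalKrullDim_eq _ (Scheme.homeoOfIso i).isHomeomorph]
    refine (PrimeSpectrum.topologicalKrullDim_eq_ringKrullDim _).trans ?_
    have e0 : (n - 1) * (n - (n - 1)) = n - 1 := by rw [show n - (n - 1) = 1 by omega, mul_one]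
    rw [MvPolynomial.ringKrullDim_of_isNoetherianRing, ringKrullDim_eq_zero_of_field, zero_add, Nat.card_ulift,
      Nat.card_fin, e0]
  haveI : Nonempty ↥(BrSev.bc f K) := by
    have : Nonempty ↥U.toScheme := (Scheme.homeoOfIso i).symm.toEquiv.nonempty_congr.1 inferInstance
    exact this.map U.ι
  have hdim : topologicalKrullDim ↥(BrSev.bc f K) = ((n - 1 : ℕ) : WithBot ℕ∞) := le_antisymm
    (r.isEmbedding.isInducing.topologicalKrullDim_le.trans (GenusZeroLib.dim_projSpace K (n - 1)).le)
    (hU ▸ (U.ι.isOpenEmbedding.isEmbedding.isInducing.topologicalKrullDim_le))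
  haveI := GenusZeroLib.isIso_of_isClosedImmersion K (n - 1) r hdim
  exact ⟨⟨asIso r, hr⟩⟩

end SBSplitLib

end
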