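import Groth.Agent.SBAutLib.Basic
import Groth.Agent.GrassLib.Rep

/-!
# Split Severi–Brauer varieties represent a Grassmannian functor
-/

set_option autoImplicit false
set_option linter.style.haveILetI false

universe u

open CategoryTheory CategoryTheory.Limits AlgebraicGeometry TensorProduct

noncomputable section

namespace SBSplitLib

variable {k : Type u} [Field k] {A : Type u} [Ring A] [Algebra k A] [Module.Finite k A] {n : ℕ} {K : Type u} [Field K]
  [Algebra k K] (s : SBAutLib.Split k A n K) (hA : Module.finrank k A = n * n)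
variable (R : Type u) [CommRing R] [Algebra k R] [Algebra K R] [IsScalarTower k K R]

/-- Vectors as tensors. -/
def co : R ⊗[K] (Fin n → K) ≃ₗ[R] (Fin n → R) := TensorProduct.piScalarRight K R R (Fin n)

/-- A row of an element, as a linear map. -/
def row (r : Fin n) : R ⊗[k] A →ₗ[R] (Fin n → R) :=
  ({ toFun := fun M => M r, map_add' := fun _ _ => rfl, map_smul' := fun _ _ => rfl } :
    Matrix (Fin n) (Fin n) R →ₗ[R] (Fin n → R)).comp (SBAutLib.mat s R hA).toLinearMap

theorem row_apply (r : Fin n) (x : R ⊗[k] A) : row s hA R r x = SBAutLib.mat s R hA x r := rfl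

/-- The element with one prescribed row. -/
def put (r : Fin n) : (Fin n → R) →ₗ[R] R ⊗[k] A :=
  (SBAutLib.mat s R hA).symm.toLinearMap.comp (M₂ := Matrix (Fin n) (Fin n) R) (σ₁₂ := RingHom.id R)
    { toFun := fun v => Matrix.vecMulVec (Pi.single r 1) v
      map_add' := fun a b => Matrix.vecMulVec_add _ a b
      map_smul' := fun c a => Matrix.vecMulVec_smul c _ a }

theorem mat_put (r : Fin n) (v : Fin n → R) :
    SBAutLib.mat s R hA (put s hA R r v) = Matrix.vecMulVec (Pi.single r 1) v :=
  (SBAutLib.mat s R hA).apply_symm_apply _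

theorem row_put (r i : Fin n) (v : Fin n → R) :
    row s hA R i (put s hA R r v) = if i = r then v else 0 := by
  rw [row_apply, mat_put]
  funext j
  rcases eq_or_ne i r with rfl | h
  · simp [Matrix.vecMulVec_apply]
  · simp [Matrix.vecMulVec_apply, h]

theorem mat_single_mul (r i : Fin n) (x : R ⊗[k] A) :
    (SBAutLib.mat s R hA).symm (Matrix.single r i 1) * x = put s hA R r (row s hA R i x) := by
  apply (SBAutLib.mat s R hA).injective
  rw [map_mul, AlgEquiv.apply_symm_apply, mat_put]
  refine Matrix.ext fun a b => ?_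
  rw [Matrix.vecMulVec_apply, row_apply]
  rcases eq_or_ne a r with rfl | h
  · rw [Matrix.single_mul_apply_same, one_mul, Pi.single_eq_same, one_mul]
  · rw [Matrix.single_mul_apply_of_ne (h := h), Pi.single_eq_of_ne h, zero_mul]

theorem sum_put_row (x : R ⊗[k] A) : ∑ r, put s hA R r (row s hA R r x) = x := by
  apply (SBAutLib.mat s R hA).injective
  rw [map_sum]
  refine Matrix.ext fun a b => ?_
  simp only [mat_put, Matrix.sum_apply, Matrix.vecMulVec_apply, row_apply]
  rw [Finset.sum_eq_single a (fun r _ hr => by rw [Pi.single_eq_of_ne (Ne.symm hr), zero_mul])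
    (fun h => absurd (Finset.mem_univ a) h), Pi.single_eq_same, one_mul]

variable {R}

theorem row_mul (r : Fin n) (a x : R ⊗[k] A) :
    row s hA R r (a * x) = ∑ j, SBAutLib.mat s R hA a r j • row s hA R j x := by
  funext b
  rw [row_apply, map_mul, Matrix.mul_apply]
  simp [row_apply]

variable (hn : 0 < n)

/-- The row space of a point. -/
def rows (N : BrSev.SBSet k A (n * n - n) R) : Submodule R (Fin n → R) :=
  N.1.toSubmodule.comap (put s hA R ⟨0, hn⟩)

theorem mem_iff (N : BrSev.SBSet k A (n * n - n) R) (x : R ⊗[k] A) :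
    x ∈ N.1.toSubmodule ↔ ∀ r, row s hA R r x ∈ rows s hA hn N := by
  refine ⟨fun hx r => ?_, fun h => ?_⟩
  · show put s hA R _ _ ∈ N.1.toSubmodule
    rw [← mat_single_mul]
    exact N.2 _ _ hx
  · rw [← sum_put_row s hA R x]
    refine Submodule.sum_mem _ fun r _ => ?_
    have h1 := N.2 ((SBAutLib.mat s R hA).symm (Matrix.single r ⟨0, hn⟩ 1)) _ (h r)
    rwa [mat_single_mul, row_put, if_pos rfl] at h1

theorem le_row (N : BrSev.SBSet k A (n * n - n) R) :
    N.1.toSubmodule ≤ (rows s hA hn N).comap (row s hA R ⟨0, hn⟩) := fun x hx => (mem_iff s hA hn N x).1 hx _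

theorem projective_rows (N : BrSev.SBSet k A (n * n - n) R) : Module.Projective R ((Fin n → R) ⧸ rows s hA hn N) := by
  haveI := N.1.projective_quotient
  refine Module.Projective.of_split ((rows s hA hn N).mapQ N.1.toSubmodule (put s hA R ⟨0, hn⟩) le_rfl)
    (N.1.toSubmodule.mapQ (rows s hA hn N) (row s hA R ⟨0, hn⟩) (le_row s hA hn N)) (Submodule.linearMap_qext _ ?_)
  refine LinearMap.ext fun v => ?_
  simp only [LinearMap.comp_apply, Submodule.mkQ_apply, Submodule.mapQ_apply, LinearMap.id_apply, row_put, if_pos rfl, ite_true]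

/-- All rows modulo a submodule. -/
def allRows (P : Submodule R (Fin n → R)) : R ⊗[k] A →ₗ[R] (Fin n → (Fin n → R) ⧸ P) :=
  LinearMap.pi fun r => P.mkQ.comp (row s hA R r)

theorem mem_ker_allRows (P : Submodule R (Fin n → R)) (x : R ⊗[k] A) :
    x ∈ LinearMap.ker (allRows s hA P) ↔ ∀ r, row s hA R r x ∈ P := by
  simp [allRows, LinearMap.mem_ker, funext_iff, Submodule.Quotient.mk_eq_zero]

theorem allRows_surjective (P : Submodule R (Fin n → R)) : Function.Surjective (allRows s hA P) := by
  intro f
  choose v hv using fun r => Submodule.mkQ_surjective P (f r)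
  refine ⟨∑ r, put s hA R r (v r), funext fun i => ?_⟩
  simp only [allRows, LinearMap.pi_apply, LinearMap.comp_apply, map_sum, row_put]
  rw [Finset.sum_eq_single i (fun r _ hr => by simp [Ne.symm hr]) (fun h => absurd (Finset.mem_univ i) h)]
  simp [hv]

theorem rank_pi (P : Submodule R (Fin n → R)) [Module.Projective R ((Fin n → R) ⧸ P)] (q : PrimeSpectrum R) :
    Module.rankAtStalk (R := R) (Fin n → (Fin n → R) ⧸ P) q =
      n * Module.rankAtStalk (R := R) ((Fin n → R) ⧸ P) q := by
  rw [Module.rankAtStalk_pi, finsum_eq_sum_of_fintype]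
  simp

/-- The point of the Grassmannian of a point. -/
def toGr (N : BrSev.SBSet k A (n * n - n) R) : GrassLib.Pt K (Fin n → K) (n - 1) R := by
  refine { toSubmodule := (rows s hA hn N).comap (co R).toLinearMap
           finite_quotient := inferInstance
           projective_quotient := ?_
           rankAtStalk_eq := fun q => ?_ }
  all_goals
    haveI := projective_rows s hA hn N
    have e : ((R ⊗[K] (Fin n → K)) ⧸ (rows s hA hn N).comap (co R).toLinearMap) ≃ₗ[R] ((Fin n → R) ⧸ rows s hA hn N) :=
      Submodule.Quotient.equiv _ _ (co R) (Submodule.map_comap_eq_of_surjective (co R).surjective _)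
  · exact Module.Projective.of_equiv e.symm
  · rw [Module.rankAtStalk_eq_of_equiv e]
    have hk : LinearMap.ker (allRows s hA (rows s hA hn N)) = N.1.toSubmodule :=
      Submodule.ext fun x => (mem_ker_allRows s hA _ x).trans (mem_iff s hA hn N x).symm
    let e2 := (Submodule.quotEquivOfEq _ _ hk.symm).trans
      (LinearMap.quotKerEquivOfSurjective _ (allRows_surjective s hA (rows s hA hn N)))
    have h := N.1.rankAtStalk_eq q
    rw [Module.rankAtStalk_eq_of_equiv e2, rank_pi] at h
    refine Nat.eq_of_mul_eq_mul_left hn (h.trans ?_)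
    rw [Nat.mul_sub, mul_one]

/-- The point of a point of the Grassmannian. -/
def ofGr (Q : GrassLib.Pt K (Fin n → K) (n - 1) R) : BrSev.SBSet k A (n * n - n) R := by
  let P : Submodule R (Fin n → R) := Q.toSubmodule.comap (co R).symm.toLinearMap
  have e : ((R ⊗[K] (Fin n → K)) ⧸ Q.toSubmodule) ≃ₗ[R] ((Fin n → R) ⧸ P) :=
    Submodule.Quotient.equiv _ _ (co R) (by
      ext v
      simp [P])
  haveI := Q.projective_quotient
  haveI := Q.finite_quotient
  haveI : Module.Projective R ((Fin n → R) ⧸ P) := Module.Projective.of_equiv e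
  haveI : Module.Projective R (Fin n → (Fin n → R) ⧸ P) :=
    Module.Projective.of_equiv (DFinsupp.linearEquivFunOnFintype (R := R) (M := fun _ : Fin n => (Fin n → R) ⧸ P))
  let e2 := LinearMap.quotKerEquivOfSurjective _ (allRows_surjective s hA P)
  refine ⟨{ toSubmodule := LinearMap.ker (allRows s hA P)
            finite_quotient := inferInstance
            projective_quotient := Module.Projective.of_equiv e2.symm
            rankAtStalk_eq := fun q => ?_ }, fun a x hx => ?_⟩
  · rw [Module.rankAtStalk_eq_of_equiv e2, rank_pi, ← Module.rankAtStalk_eq_of_equiv e, Q.rankAtStalk_eq,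
      Nat.mul_sub, mul_one]
  · refine (mem_ker_allRows s hA P _).2 fun r => ?_
    rw [row_mul]
    exact Submodule.sum_mem _ fun j _ => Submodule.smul_mem _ _ ((mem_ker_allRows s hA P x).1 hx j)

/-- **Left ideals of matrices are row spaces.** -/
def grEquiv : BrSev.SBSet k A (n * n - n) R ≃ GrassLib.Pt K (Fin n → K) (n - 1) R where
  toFun := toGr s hA hn
  invFun := ofGr s hA
  left_inv N := by
    refine SBActLib.sbset_ext (Submodule.ext fun x => ?_)
    show x ∈ LinearMap.ker (allRows s hA _) ↔ _
    rw [mem_ker_allRows, mem_iff s hA hn N]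
    simp [toGr]
  right_inv Q := by
    refine Module.Grassmannian.ext (Submodule.ext fun z => ?_)
    show put s hA R ⟨0, hn⟩ (co R z) ∈ LinearMap.ker (allRows s hA _) ↔ _
    rw [mem_ker_allRows]
    refine ⟨fun h => ?_, fun h r => ?_⟩
    · have h0 := h ⟨0, hn⟩
      rw [row_put, if_pos rfl] at h0
      simpa using h0
    · rw [row_put]
      split_ifs
      · simpa using h
      · exact Submodule.zero_mem _

theorem grEquiv_map {S : Type u} [CommRing S] [Algebra k S] [Algebra K S] [IsScalarTower k K S]
    (φ : R →ₐ[K] S) (N : BrSev.SBSet k A (n * n - n) R) (N' : BrSev.SBSet k A (n * n - n) S)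
    (hN : N'.1.toSubmodule = (Module.Grassmannian.map (φ.restrictScalars k) N.1).toSubmodule) :
    grEquiv s hA hn N' = Module.Grassmannian.map φ (grEquiv s hA hn N) := by
  refine (GrassLib.eq_of_le ?_).symm
  rw [GrassLib.map_toSubmodule_eq, Submodule.span_le]
  rintro _ ⟨z, hz, rfl⟩
  show put s hA S ⟨0, hn⟩ (co S (GrassLib.mapM φ z)) ∈ N'.1.toSubmodule
  have e1 : ∀ w : R ⊗[K] (Fin n → K), co S (GrassLib.mapM φ w) = φ ∘ co R w := by
    intro w
    induction w using TensorProduct.induction_on with
    | zero => funext i; simp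
    | add a b ha hb => funext i; simp [map_add, ha, hb]
    | tmul a m => funext i; simp [co]
  have e2 : put s hA S ⟨0, hn⟩ (φ ∘ co R z) =
      Algebra.TensorProduct.map (φ.restrictScalars k) (AlgHom.id k A) (put s hA R ⟨0, hn⟩ (co R z)) := by
    apply (SBAutLib.mat s S hA).injective
    rw [mat_put, SBAutLib.mat_apply, SBAutLib.toMat_map, ← SBAutLib.mat_apply s R hA, mat_put]
    ext i j
    simp only [Matrix.vecMulVec_apply, Matrix.map_apply, Function.comp_apply, map_mul]
    rcases eq_or_ne i ⟨0, hn⟩ with rfl | h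
    · simp
    · simp [Pi.single_eq_of_ne h]
  rw [e1, e2, hN, SBAutLib.map_eq_pmap]
  exact Submodule.subset_span ⟨_, hz, rfl⟩

end SBSplitLib

end
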